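import Groth.Agent.RepOne.Desc
import Groth.Agent.Boot.FaithfulDesc
/-!
A functor defined on a locally full subcategory extends to stacks; an equivalence when it is fully faithful and
locally essentially surjective.
-/

set_option autoImplicit false
set_option backward.isDefEq.respectTransparency false
set_option backward.isDefEq.respectTransparency.types false
set_option linter.unusedSectionVars false
set_option linter.style.haveILetI false

universe v₂ u₂ v u

open CategoryTheory

namespace Groth.Agent.StackExtLib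

open Groth.Agent.ASt Groth.Agent.RepOne

variable {C : Type u} [Category.{v} C] {J : GrothendieckTopology C}
  {𝒳 𝒴 : BasedCategory.{v₂, u₂} C} [h𝒳 : FibCat.IsFibGrpd 𝒳.p] [h𝒴 : FibCat.IsFibGrpd 𝒴.p]

/-- The full subcategory over the base. -/
abbrev sub (𝒳 : BasedCategory.{v₂, u₂} C) (Q : 𝒳.obj → Prop) : BasedCategory.{v₂, u₂} C where
  obj := ObjectProperty.FullSubcategory Q
  p := ObjectProperty.ι Q ⋙ 𝒳.p

/-- A functor on a covering family of objects, stable under pullback. -/
structure LocData (J : GrothendieckTopology C) (𝒳 𝒴 : BasedCategory.{v₂, u₂} C) [FibCat.IsFibGrpd 𝒳.p] where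
  /-- the objects -/
  Q : 𝒳.obj → Prop
  pull_mem : ∀ {x' x : 𝒳.obj} (_ : x' ⟶ x), Q x → Q x'
  cover : ∀ x : 𝒳.obj, ∃ S ∈ J (𝒳.p.obj x), ∀ ⦃V : C⦄ (g : V ⟶ 𝒳.p.obj x), S g → Q (pull x rfl g)
  /-- the functor -/
  F : sub 𝒳 Q ⥤ᵇ 𝒴
  stack : Stk.IsStack J 𝒴

variable (D : LocData J 𝒳 𝒴)

/-- The morphism of pullbacks over a morphism of members. -/
noncomputable def qMk {x : 𝒳.obj} {V : C} (g : V ⟶ 𝒳.p.obj x) (h : D.Q (pull x rfl g)) : (sub 𝒳 D.Q).obj :=
  ⟨pull x rfl g, h⟩

/-- The pullbacks lying in the family. -/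
noncomputable def memSieve (x : 𝒳.obj) : Sieve (𝒳.p.obj x) where
  arrows _ g := D.Q (pull x rfl g)
  downward_closed := fun {V V'} g hg h =>
    D.pull_mem (facMap (pullHom x rfl g) (pullHom x rfl (h ≫ g))
      (eqToHom (pull_base x rfl (h ≫ g)) ≫ h ≫ eqToHom (pull_base x rfl g).symm) (by
        rw [map_pullHom, map_pullHom]; simp)) hg

theorem memSieve_mem (x : 𝒳.obj) : memSieve D x ∈ J (𝒳.p.obj x) := by
  obtain ⟨S, hS, h⟩ := D.cover x
  exact J.superset_covering (fun V g hg => h g hg) hS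

/-- The pullbacks as a datum. -/
noncomputable def toQ (x : 𝒳.obj) : Stk.sieveCat (memSieve D x) ⥤ᵇ sub 𝒳 D.Q where
  toFunctor :=
    { obj := fun s => ⟨pull x rfl s.obj.hom, s.property⟩
      map := fun {s t} m => ObjectProperty.homMk (objMap x rfl m.hom)
      map_id := fun s => ObjectProperty.hom_ext _ ((objFun x (rfl : 𝒳.p.obj x = _)).toFunctor.map_id s.obj)
      map_comp := fun {r s t} m n =>
        ObjectProperty.hom_ext _ ((objFun x (rfl : 𝒳.p.obj x = _)).toFunctor.map_comp m.hom n.hom) }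
  w := CategoryTheory.Functor.ext (F := _ ⋙ (sub 𝒳 D.Q).p) (G := (Stk.sieveCat (memSieve D x)).p)
    (fun s => pull_base x rfl s.obj.hom) (fun s t m => map_objMap x rfl m.hom)

/-- The datum of values. -/
noncomputable def datum (x : 𝒳.obj) : Stk.sieveCat (memSieve D x) ⥤ᵇ 𝒴 :=
  BasedFunctor.comp (toQ D x) D.F

/-- The chosen glued object. -/
noncomputable def cone (x : 𝒳.obj) : SCone (datum D x) :=
  Classical.choice ((isStack_iff.1 D.stack (memSieve D x) (memSieve_mem D x)).2 (datum D x))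

/-- The value. -/
noncomputable def obj (x : 𝒳.obj) : 𝒴.obj := (cone D x).pt

theorem obj_base (x : 𝒳.obj) : 𝒴.p.obj (obj D x) = 𝒳.p.obj x := (cone D x).base

/-- The structure morphism from the value at a pullback in the family. -/
noncomputable def leg (x : 𝒳.obj) {V : C} (g : V ⟶ 𝒳.p.obj x) (h : D.Q (pull x rfl g)) :
    D.F.obj (qMk D g h) ⟶ obj D x :=
  (cone D x).ι ⟨Over.mk g, h⟩

theorem qMk_base {x : 𝒳.obj} {V : C} (g : V ⟶ 𝒳.p.obj x) (h : D.Q (pull x rfl g)) :
    (sub 𝒳 D.Q).p.obj (qMk D g h) = V :=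
  pull_base x rfl g

theorem map_leg (x : 𝒳.obj) {V : C} (g : V ⟶ 𝒳.p.obj x) (h : D.Q (pull x rfl g)) :
    𝒴.p.map (leg D x g h) =
      eqToHom ((D.F.w_obj (qMk D g h)).trans (qMk_base D g h)) ≫ g ≫ eqToHom (obj_base D x).symm :=
  (cone D x).map_ι ⟨Over.mk g, h⟩

theorem leg_nat (x : 𝒳.obj) {V' V : C} (g : V ⟶ 𝒳.p.obj x) (h : D.Q (pull x rfl g)) (g' : V' ⟶ 𝒳.p.obj x)
    (h' : D.Q (pull x rfl g')) (m : pull x rfl g' ⟶ pull x rfl g)
    (hm : m ≫ pullHom x rfl g = pullHom x rfl g') :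
    D.F.map (ObjectProperty.homMk m : qMk D g' h' ⟶ qMk D g h) ≫ leg D x g h = leg D x g' h' := by
  let l : V' ⟶ V := eqToHom (pull_base x rfl g').symm ≫ 𝒳.p.map m ≫ eqToHom (pull_base x rfl g)
  have hl : l ≫ g = g' := by
    have := congrArg (fun k => 𝒳.p.map k) hm
    simp only [Functor.map_comp, map_pullHom] at this
    have h2 := congrArg (fun k => eqToHom (pull_base x rfl g').symm ≫ k) this
    simpa [l, Category.assoc] using h2
  let n : (⟨Over.mk g', h'⟩ : (Stk.sieveCat (memSieve D x)).obj) ⟶ ⟨Over.mk g, h⟩ :=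
    ObjectProperty.homMk (Over.homMk l hl)
  have hn : objMap x rfl n.hom = m := by
    refine hom_ext (pullHom x rfl g) ?_ ((objMap_comp x rfl n.hom).trans hm.symm)
    rw [map_objMap]
    simp [n, l]
  have := (cone D x).nat n
  refine Eq.trans ?_ this
  refine congrArg (fun k => D.F.map k ≫ leg D x g h) ?_
  exact ObjectProperty.hom_ext _ hn.symm

theorem legs_ext {x : 𝒳.obj} {S : Sieve (𝒳.p.obj x)} (hS : S ∈ J (𝒳.p.obj x))
    (hle : ∀ ⦃V : C⦄ (g : V ⟶ 𝒳.p.obj x), S g → D.Q (pull x rfl g)) {o : 𝒴.obj} {a b : obj D x ⟶ o}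
    (hb : 𝒴.p.map a = 𝒴.p.map b)
    (h : ∀ {V : C} (g : V ⟶ 𝒳.p.obj x) (hg : S g), leg D x g (hle g hg) ≫ a = leg D x g (hle g hg) ≫ b) :
    a = b := by
  let s := facMap a b (𝟙 _) (by rw [Category.id_comp, hb])
  have hs : 𝒴.p.map s = 𝟙 _ := map_facMap _ _ _ _
  have hsa : s ≫ a = b := facMap_comp _ _ _ _
  have hc : ∀ {V : C} (g : V ⟶ 𝒳.p.obj x) (hg : S g), leg D x g (hle g hg) ≫ s = leg D x g (hle g hg) :=
    fun g hg => hom_ext a (by rw [Functor.map_comp, hs, Category.comp_id])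
      (by rw [Category.assoc, hsa, h g hg])
  have hS' : S ≤ memSieve D x := fun V g hg => hle g hg
  obtain ⟨k, -, hu⟩ := (isStack_iff.1 D.stack S hS).1 _ ((cone D x).restrict hS') ((cone D x).restrict hS')
  have h1 : s = k := hu s ⟨hs.trans (eqToHom_refl _ _).symm, fun t => hc t.obj.hom t.property⟩
  have h2 : (𝟙 (obj D x) : obj D x ⟶ obj D x) = k :=
    hu _ ⟨(𝒴.p.map_id _).trans (eqToHom_refl _ _).symm, fun t => Category.comp_id _⟩
  rw [← hsa, h1, ← h2, Category.id_comp]

theorem exists_map {x x' : 𝒳.obj} (a : x ⟶ x') :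
    ∃ k : obj D x ⟶ obj D x', 𝒴.p.map k = eqToHom (obj_base D x) ≫ 𝒳.p.map a ≫ eqToHom (obj_base D x').symm ∧
      ∀ {V' V : C} (g : V' ⟶ 𝒳.p.obj x) (hg : D.Q (pull x rfl g)) (g' : V ⟶ 𝒳.p.obj x')
        (hg' : D.Q (pull x' rfl g')) (m : pull x rfl g ⟶ pull x' rfl g'),
        m ≫ pullHom x' rfl g' = pullHom x rfl g ≫ a →
          leg D x g hg ≫ k = D.F.map (ObjectProperty.homMk m : qMk D g hg ⟶ qMk D g' hg') ≫ leg D x' g' hg' := by
  let φ : pull (obj D x') (obj_base D x') (𝒳.p.map a) ⟶ obj D x' := pullHom _ _ _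
  have hmem : ∀ (s : (Stk.sieveCat (memSieve D x)).obj), D.Q (pull x' rfl (s.obj.hom ≫ 𝒳.p.map a)) := fun s => by
    let i := facMap (pullHom x rfl s.obj.hom ≫ a) (pullHom x' rfl (s.obj.hom ≫ 𝒳.p.map a))
      (eqToHom ((pull_base x' rfl _).trans (pull_base x rfl _).symm)) (by
        rw [Functor.map_comp, map_pullHom, map_pullHom]; simp)
    exact D.pull_mem i s.property
  let f : ∀ s : (Stk.sieveCat (memSieve D x)).obj, pull x rfl s.obj.hom ⟶ pull x' rfl (s.obj.hom ≫ 𝒳.p.map a) :=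
    fun s => facMap (pullHom x' rfl (s.obj.hom ≫ 𝒳.p.map a)) (pullHom x rfl s.obj.hom ≫ a)
      (eqToHom ((pull_base x rfl _).trans (pull_base x' rfl _).symm)) (by
        rw [Functor.map_comp, map_pullHom, map_pullHom]; simp)
  have hf : ∀ s, f s ≫ pullHom x' rfl (s.obj.hom ≫ 𝒳.p.map a) = pullHom x rfl s.obj.hom ≫ a :=
    fun s => facMap_comp _ _ _ _
  let τ : ∀ s : (Stk.sieveCat (memSieve D x)).obj, (datum D x).obj s ⟶ obj D x' := fun s =>
    D.F.map (ObjectProperty.homMk (f s) : (toQ D x).obj s ⟶ qMk D _ (hmem s)) ≫ leg D x' _ (hmem s)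
  have hτ : ∀ s, 𝒴.p.map (τ s) =
      eqToHom ((datum D x).w_obj s) ≫ s.obj.hom ≫ 𝒳.p.map a ≫ eqToHom (obj_base D x').symm := fun s => by
    simp only [τ, Functor.map_comp, map_leg]
    rw [map_w]
    change (_ ≫ 𝒳.p.map (f s) ≫ _) ≫ _ = _
    rw [map_facMap]
    simp
  have e : ∀ s, (eqToHom ((datum D x).w_obj s) ≫ s.obj.hom ≫
      eqToHom (pull_base (obj D x') (obj_base D x') (𝒳.p.map a)).symm) ≫ 𝒴.p.map φ = 𝒴.p.map (τ s) := fun s => by
    rw [hτ, map_pullHom]
    simp
  let c : SCone (datum D x) :=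
    { pt := pull (obj D x') (obj_base D x') (𝒳.p.map a)
      base := pull_base _ _ _
      ι := fun s => facMap φ (τ s) _ (e s)
      map_ι := fun s => map_facMap _ _ _ _
      nat := fun {s t} m => by
        refine hom_ext φ ?_ ?_
        · rw [Functor.map_comp, map_facMap, map_facMap, map_w]
          have := Over.w m.hom
          simp only [Category.assoc, eqToHom_trans_assoc, eqToHom_refl, Category.id_comp]
          exact congrArg (fun k => eqToHom _ ≫ k)
            ((Category.assoc _ _ _).symm.trans (congrArg (· ≫ eqToHom _) this))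
        · rw [Category.assoc, facMap_comp, facMap_comp]
          let m' : pull x' rfl (s.obj.hom ≫ 𝒳.p.map a) ⟶ pull x' rfl (t.obj.hom ≫ 𝒳.p.map a) :=
            facMap (pullHom x' rfl _) (pullHom x' rfl _)
              (eqToHom (pull_base x' rfl _) ≫ m.hom.left ≫ eqToHom (pull_base x' rfl _).symm) (by
                rw [map_pullHom, map_pullHom]
                have := Over.w m.hom
                simp)
          have hm' : f s ≫ m' = objMap x rfl m.hom ≫ f t := by
            refine hom_ext (pullHom x' rfl _) ?_ ?_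
            · rw [Functor.map_comp, Functor.map_comp, map_facMap, map_facMap, map_facMap, map_objMap]
              simp
            · rw [Category.assoc, Category.assoc, facMap_comp, hf, hf, objMap_comp_assoc]
          change D.F.map ((toQ D x).map m) ≫ D.F.map _ ≫ leg D x' _ _ = D.F.map _ ≫ leg D x' _ _
          rw [← leg_nat D x' _ (hmem t) _ (hmem s) m' (facMap_comp _ _ _ _), ← Category.assoc, ← Category.assoc,
            ← D.F.toFunctor.map_comp, ← D.F.toFunctor.map_comp]
          exact congrArg (fun k => D.F.map k ≫ leg D x' _ (hmem t)) (ObjectProperty.hom_ext _ hm'.symm) }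
  obtain ⟨h, ⟨hb, hι⟩, -⟩ := (isStack_iff.1 D.stack (memSieve D x) (memSieve_mem D x)).1 _ (cone D x) c
  refine ⟨h ≫ φ, ?_, fun {V' V} g hg g' hg' m hm => ?_⟩
  · have hb' : 𝒴.p.map h = eqToHom ((cone D x).base.trans c.base.symm) := hb
    rw [Functor.map_comp, hb', map_pullHom]
    simp
  · let s : (Stk.sieveCat (memSieve D x)).obj := ⟨Over.mk g, hg⟩
    have h1 : leg D x g hg ≫ h ≫ φ = τ s := by
      rw [← Category.assoc]
      exact (congrArg (· ≫ φ) (hι s)).trans (facMap_comp _ _ _ (e s))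
    rw [h1]
    let l : V' ⟶ V := eqToHom (pull_base x rfl g).symm ≫ 𝒳.p.map m ≫ eqToHom (pull_base x' rfl g')
    have hl : l ≫ g' = g ≫ 𝒳.p.map a := by
      have := congrArg (fun k => 𝒳.p.map k) hm
      simp only [Functor.map_comp, map_pullHom] at this
      have h2 := congrArg (fun k => eqToHom (pull_base x rfl g).symm ≫ k) this
      simpa [l, Category.assoc] using h2
    let m' : pull x' rfl (g ≫ 𝒳.p.map a) ⟶ pull x' rfl g' := facMap (pullHom x' rfl g') (pullHom x' rfl _)
      (eqToHom (pull_base x' rfl _) ≫ l ≫ eqToHom (pull_base x' rfl g').symm) (by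
        rw [map_pullHom, map_pullHom]
        simp [hl])
    have hm' : f s ≫ m' = m := by
      refine hom_ext (pullHom x' rfl g') ?_ ?_
      · rw [Functor.map_comp, map_facMap, map_facMap]
        simp [l, s]
      · rw [Category.assoc, facMap_comp, hm]
        exact hf s
    change D.F.map _ ≫ leg D x' _ (hmem s) = _
    rw [← leg_nat D x' g' hg' _ (hmem s) m' (facMap_comp _ _ _ _), ← Category.assoc, ← D.F.toFunctor.map_comp]
    exact congrArg (fun k => D.F.map k ≫ leg D x' g' hg') (ObjectProperty.hom_ext _ hm')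

/-- The value on morphisms. -/
noncomputable def map {x x' : 𝒳.obj} (a : x ⟶ x') : obj D x ⟶ obj D x' := (exists_map D a).choose

theorem map_map {x x' : 𝒳.obj} (a : x ⟶ x') :
    𝒴.p.map (map D a) = eqToHom (obj_base D x) ≫ 𝒳.p.map a ≫ eqToHom (obj_base D x').symm :=
  (exists_map D a).choose_spec.1

theorem leg_map {x x' : 𝒳.obj} (a : x ⟶ x') {V' V : C} (g : V' ⟶ 𝒳.p.obj x) (hg : D.Q (pull x rfl g))
    (g' : V ⟶ 𝒳.p.obj x') (hg' : D.Q (pull x' rfl g')) (m : pull x rfl g ⟶ pull x' rfl g')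
    (hm : m ≫ pullHom x' rfl g' = pullHom x rfl g ≫ a) :
    leg D x g hg ≫ map D a = D.F.map (ObjectProperty.homMk m : qMk D g hg ⟶ qMk D g' hg') ≫ leg D x' g' hg' :=
  (exists_map D a).choose_spec.2 g hg g' hg' m hm

/-- Pullbacks along a composite lie in the family. -/
theorem mem_comp {x x' : 𝒳.obj} (a : x ⟶ x') {V : C} (g : V ⟶ 𝒳.p.obj x) (hg : D.Q (pull x rfl g)) :
    ∃ (_ : D.Q (pull x' rfl (g ≫ 𝒳.p.map a))) (m : pull x rfl g ⟶ pull x' rfl (g ≫ 𝒳.p.map a)),
      m ≫ pullHom x' rfl (g ≫ 𝒳.p.map a) = pullHom x rfl g ≫ a := by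
  let i := facMap (pullHom x rfl g ≫ a) (pullHom x' rfl (g ≫ 𝒳.p.map a))
    (eqToHom ((pull_base x' rfl _).trans (pull_base x rfl _).symm)) (by
      rw [Functor.map_comp, map_pullHom, map_pullHom]; simp)
  let j := facMap (pullHom x' rfl (g ≫ 𝒳.p.map a)) (pullHom x rfl g ≫ a)
    (eqToHom ((pull_base x rfl _).trans (pull_base x' rfl _).symm)) (by
      rw [Functor.map_comp, map_pullHom, map_pullHom]; simp)
  exact ⟨D.pull_mem i hg, j, facMap_comp _ _ _ _⟩

/-- The extension. -/
noncomputable def extend : 𝒳 ⥤ᵇ 𝒴 where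
  toFunctor :=
    { obj := obj D
      map := map D
      map_id := fun x => legs_ext D (memSieve_mem D x) (fun V g hg => hg)
        (by rw [map_map, 𝒴.p.map_id, 𝒳.p.map_id]; simp) fun g hg => by
          rw [leg_map D (𝟙 x) g hg g hg (𝟙 _) (by simp)]
          refine (congrArg (· ≫ leg D x g hg) (D.F.toFunctor.map_id _)).trans ?_
          rw [Category.id_comp, Category.comp_id]
      map_comp := fun {x x' x''} a b => legs_ext D (memSieve_mem D x) (fun V g hg => hg)
        (by rw [Functor.map_comp, map_map, map_map, map_map, 𝒳.p.map_comp]; simp) fun g hg => by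
          obtain ⟨hg', m, hm⟩ := mem_comp D a g hg
          obtain ⟨hg'', n, hn⟩ := mem_comp D b _ hg'
          rw [← Category.assoc, leg_map D a g hg _ hg' m hm, Category.assoc, leg_map D b _ hg' _ hg'' n hn,
            leg_map D (a ≫ b) g hg _ hg'' (m ≫ n) (by rw [Category.assoc, hn, reassoc_of% hm]), ← Category.assoc,
            ← D.F.toFunctor.map_comp]
          rfl }
  w := CategoryTheory.Functor.ext (F := _ ⋙ 𝒴.p) (G := 𝒳.p) (obj_base D) fun x x' a => map_map D a

variable {D}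

theorem faithful_extend (hX : Stk.IsStack J 𝒳) [D.F.toFunctor.Faithful] : (extend D).toFunctor.Faithful := by
  refine Boot.faithful_of_kernel _ fun x v hv hEv => ?_
  refine Boot.eq_id_of_local (isPrestack_of_isStack hX) v hv _ (memSieve_mem D x) fun V g hg => ?_
  let vg := facMap (pullHom x rfl g) (pullHom x rfl g ≫ v) (𝟙 _) (by
    rw [Functor.map_comp, hv, Category.comp_id, Category.id_comp])
  have hvg : vg ≫ pullHom x rfl g = pullHom x rfl g ≫ v := facMap_comp _ _ _ _
  have h1 := leg_map D v g hg g hg vg hvg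
  rw [show map D v = 𝟙 _ from hEv, Category.comp_id] at h1
  have h2 : D.F.map (ObjectProperty.homMk vg : qMk D g hg ⟶ qMk D g hg) = 𝟙 _ := by
    refine hom_ext (leg D x g hg) ?_ (h1.symm.trans (Category.id_comp _).symm)
    rw [map_w]
    change _ ≫ 𝒳.p.map vg ≫ _ = _
    rw [map_facMap]
    simp
  have h3 : vg = 𝟙 _ :=
    congrArg (fun k => k.hom) (D.F.toFunctor.map_injective (h2.trans (D.F.toFunctor.map_id _).symm))
  rw [← hvg, h3, Category.id_comp]

theorem exists_vert_preimage (hX : Stk.IsStack J 𝒳) [D.F.toFunctor.Faithful] [D.F.toFunctor.Full] {x z : 𝒳.obj}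
    (hz : 𝒳.p.obj z = 𝒳.p.obj x) (h : obj D x ⟶ obj D z)
    (hh : 𝒴.p.map h = eqToHom ((obj_base D x).trans (hz.symm.trans (obj_base D z).symm))) :
    ∃ a : x ⟶ z, map D a = h := by
  let S : Sieve (𝒳.p.obj x) := memSieve D x ⊓ (memSieve D z).pullback (eqToHom hz.symm)
  have hS : S ∈ J (𝒳.p.obj x) := J.intersection_covering (memSieve_mem D x)
    (J.pullback_stable _ (memSieve_mem D z))
  have hq : ∀ s : (Stk.sieveCat S).obj, D.Q (pull z rfl (s.obj.hom ≫ eqToHom hz.symm)) := fun s => s.property.2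
  have hex : ∀ s : (Stk.sieveCat S).obj, ∃ n : pull x rfl s.obj.hom ⟶ pull z rfl (s.obj.hom ≫ eqToHom hz.symm),
      leg D x _ s.property.1 ≫ h = D.F.map (ObjectProperty.homMk n : qMk D _ s.property.1 ⟶ qMk D _ (hq s)) ≫
        leg D z _ (hq s) ∧
      𝒳.p.map n = eqToHom ((pull_base x rfl s.obj.hom).trans (pull_base z rfl _).symm) := fun s => by
    let k := facMap (leg D z _ (hq s)) (leg D x _ s.property.1 ≫ h)
      (eqToHom (((D.F.w_obj (qMk D _ s.property.1)).trans (qMk_base D _ s.property.1)).trans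
        ((D.F.w_obj (qMk D _ (hq s))).trans (qMk_base D _ (hq s))).symm)) (by
        rw [Functor.map_comp, map_leg, map_leg, hh]
        simp)
    obtain ⟨n, hn⟩ := D.F.toFunctor.map_surjective k
    refine ⟨n.hom, ((congrArg (· ≫ leg D z _ (hq s)) hn).trans (facMap_comp _ _ _ _)).symm, ?_⟩
    have h1 := congrArg (fun j => 𝒴.p.map j) hn
    simp only [map_w, k, map_facMap] at h1
    change _ ≫ 𝒳.p.map n.hom ≫ _ = _ at h1
    have h2 := congrArg (fun j => eqToHom (D.F.w_obj (qMk D _ s.property.1)).symm ≫ j ≫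
      eqToHom (D.F.w_obj (qMk D _ (hq s)))) h1
    simpa using h2
  choose n hn hn' using hex
  have hnmap : ∀ s, 𝒳.p.map (n s ≫ pullHom z rfl (s.obj.hom ≫ eqToHom hz.symm)) =
      eqToHom (pull_base x rfl s.obj.hom) ≫ s.obj.hom ≫ eqToHom hz.symm := fun s => by
    rw [Functor.map_comp, hn', map_pullHom]
    simp
  let D₀ : Stk.sieveCat S ⥤ᵇ 𝒳 :=
    BasedFunctor.comp (subFun (R := memSieve D x) (S := S) fun V g hg => hg.1)
      (BasedFunctor.comp (toQ D x) ⟨ObjectProperty.ι D.Q, rfl⟩)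
  let c₁ : SCone D₀ :=
    { pt := x
      base := rfl
      ι := fun s => pullHom x rfl s.obj.hom
      map_ι := fun s => map_pullHom _ _ _
      nat := fun {s t} m => objMap_comp x rfl m.hom }
  let c₂ : SCone D₀ :=
    { pt := z
      base := hz
      ι := fun s => n s ≫ pullHom z rfl (s.obj.hom ≫ eqToHom hz.symm)
      map_ι := fun s => hnmap s
      nat := fun {s t} m => by
        let m' : pull z rfl (s.obj.hom ≫ eqToHom hz.symm) ⟶ pull z rfl (t.obj.hom ≫ eqToHom hz.symm) :=
          facMap (pullHom z rfl _) (pullHom z rfl _)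
            (eqToHom (pull_base z rfl _) ≫ m.hom.left ≫ eqToHom (pull_base z rfl _).symm) (by
              rw [map_pullHom, map_pullHom]
              have := Over.w m.hom
              simp)
        have hm' : objMap x rfl m.hom ≫ n t = n s ≫ m' := by
          refine congrArg (fun k => k.hom) (D.F.toFunctor.map_injective (show D.F.map
            (ObjectProperty.homMk (objMap x rfl m.hom ≫ n t) : qMk D _ s.property.1 ⟶ qMk D _ (hq t)) =
              D.F.map (ObjectProperty.homMk (n s ≫ m')) from ?_))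
          have hl : ∀ k : pull x rfl s.obj.hom ⟶ pull z rfl (t.obj.hom ≫ eqToHom hz.symm),
              𝒳.p.map k = eqToHom (pull_base x rfl _) ≫ m.hom.left ≫ eqToHom (pull_base z rfl _).symm →
              𝒴.p.map (D.F.map (ObjectProperty.homMk k : qMk D _ s.property.1 ⟶ qMk D _ (hq t))) =
                eqToHom ((D.F.w_obj (qMk D _ s.property.1)).trans (qMk_base D _ s.property.1)) ≫ m.hom.left ≫
                  eqToHom ((D.F.w_obj (qMk D _ (hq t))).trans (qMk_base D _ (hq t))).symm := fun k hk => by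
            rw [map_w]
            change _ ≫ 𝒳.p.map k ≫ _ = _
            rw [hk]
            simp
          refine hom_ext (leg D z _ (hq t)) ((hl _ ?_).trans (hl _ ?_).symm) ?_
          · rw [Functor.map_comp, map_objMap, hn']
            simp
          · rw [Functor.map_comp, map_facMap, hn']
            simp
          · rw [show (ObjectProperty.homMk (objMap x rfl m.hom ≫ n t) :
                qMk D _ s.property.1 ⟶ qMk D _ (hq t)) =
                (ObjectProperty.homMk (objMap x rfl m.hom) : qMk D _ s.property.1 ⟶ qMk D _ t.property.1) ≫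
                  (ObjectProperty.homMk (show (qMk D _ t.property.1).obj ⟶ (qMk D _ (hq t)).obj from n t) :
                    qMk D _ t.property.1 ⟶ qMk D _ (hq t)) from rfl,
              show (ObjectProperty.homMk (n s ≫ m') : qMk D _ s.property.1 ⟶ qMk D _ (hq t)) =
                (ObjectProperty.homMk (n s) : qMk D _ s.property.1 ⟶ qMk D _ (hq s)) ≫ (ObjectProperty.homMk (show (qMk D _ (hq s)).obj ⟶ (qMk D _ (hq t)).obj from m') : qMk D _ (hq s) ⟶ qMk D _ (hq t))
                from rfl,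
              D.F.toFunctor.map_comp, D.F.toFunctor.map_comp, Category.assoc, Category.assoc, ← hn t,
              leg_nat D z _ (hq t) _ (hq s) m' (facMap_comp _ _ _ _), ← hn s, ← Category.assoc,
              leg_nat D x _ t.property.1 _ s.property.1 _ (objMap_comp x rfl m.hom)]
        change objMap x rfl m.hom ≫ n t ≫ _ = n s ≫ _
        rw [← Category.assoc, hm', Category.assoc, facMap_comp] }
  obtain ⟨a, ⟨ha, hι⟩, -⟩ := (isStack_iff.1 hX S hS).1 D₀ c₁ c₂
  refine ⟨a, legs_ext D hS (fun V g hg => hg.1) ?_ fun g hg => ?_⟩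
  · rw [map_map, hh, show 𝒳.p.map a = _ from ha]
    simp
  · rw [leg_map D a g hg.1 _ (hq ⟨Over.mk g, hg⟩) (n ⟨Over.mk g, hg⟩) (hι ⟨Over.mk g, hg⟩).symm]
    exact (hn ⟨Over.mk g, hg⟩).symm

theorem full_extend (hX : Stk.IsStack J 𝒳) [D.F.toFunctor.Faithful] [D.F.toFunctor.Full] :
    (extend D).toFunctor.Full := by
  refine ⟨fun {x x'} k => ?_⟩
  let k' : obj D x ⟶ obj D x' := k
  let l : 𝒳.p.obj x ⟶ 𝒳.p.obj x' := eqToHom (obj_base D x).symm ≫ 𝒴.p.map k' ≫ eqToHom (obj_base D x')
  let z := pull x' rfl l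
  have hz : 𝒳.p.obj z = 𝒳.p.obj x := pull_base x' rfl l
  let h := facMap (map D (pullHom x' rfl l)) k'
    (eqToHom ((obj_base D x).trans (hz.symm.trans (obj_base D z).symm))) (by
      rw [map_map, map_pullHom]
      simp [l, z])
  obtain ⟨a, ha⟩ := exists_vert_preimage hX hz h (map_facMap _ _ _ _)
  refine ⟨a ≫ pullHom x' rfl l, ?_⟩
  change (extend D).map (a ≫ pullHom x' rfl l) = k'
  rw [(extend D).toFunctor.map_comp]
  change map D a ≫ map D _ = _
  rw [ha]
  exact facMap_comp _ _ _ _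

/-- The extension is an equivalence. -/
theorem exists_equiv (hX : Stk.IsStack J 𝒳) [D.F.toFunctor.Faithful] [D.F.toFunctor.Full]
    (hsurj : ∀ y : 𝒴.obj, ∃ S ∈ J (𝒴.p.obj y), ∀ ⦃V : C⦄ (g : V ⟶ 𝒴.p.obj y), S g →
      ∃ (q : (sub 𝒳 D.Q).obj) (hq : 𝒳.p.obj q.obj = V) (m : D.F.obj q ⟶ y),
        𝒴.p.map m = eqToHom ((D.F.w_obj q).trans hq) ≫ g) :
    ∃ e : 𝒳 ⥤ᵇ 𝒴, FibCat.IsEquivOver e := by
  haveI := faithful_extend (D := D) hX
  haveI := full_extend (D := D) hX
  refine ⟨extend D, isEquivOver_of_vert _ fun y => ?_⟩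
  obtain ⟨S, hS, hloc⟩ := hsurj y
  choose q hq m hm using fun s : (Stk.sieveCat S).obj => hloc s.obj.hom s.property
  have hex : ∀ {s t : (Stk.sieveCat S).obj} (n : s ⟶ t), ∃ b : q s ⟶ q t,
      D.F.map b ≫ m t = m s ∧ 𝒳.p.map b.hom = eqToHom (hq s) ≫ n.hom.left ≫ eqToHom (hq t).symm := by
    intro s t n
    let k := facMap (m t) (m s) (eqToHom ((D.F.w_obj (q s)).trans (hq s)) ≫ n.hom.left ≫
      eqToHom ((D.F.w_obj (q t)).trans (hq t)).symm) (by
        rw [hm, hm]
        have := Over.w n.hom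
        simp)
    obtain ⟨b, hb⟩ := D.F.toFunctor.map_surjective k
    refine ⟨b, by rw [show D.F.map b = k from hb]; exact facMap_comp _ _ _ _, ?_⟩
    have h1 := congrArg (fun j => 𝒴.p.map j) hb
    simp only [map_w, k, map_facMap] at h1
    change _ ≫ 𝒳.p.map b.hom ≫ _ = _ at h1
    have h2 := congrArg (fun j => eqToHom (D.F.w_obj (q s)).symm ≫ j ≫ eqToHom (D.F.w_obj (q t))) h1
    simpa using h2
  choose b hb hb' using @hex
  have hinj : ∀ {s t : (Stk.sieveCat S).obj} {a a' : q s ⟶ q t}, D.F.map a ≫ m t = D.F.map a' ≫ m t →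
      𝒳.p.map a.hom = 𝒳.p.map a'.hom → a = a' := by
    intro s t a a' h h'
    refine D.F.toFunctor.map_injective (hom_ext (m t) ?_ h)
    rw [map_w, map_w]
    change _ ≫ 𝒳.p.map a.hom ≫ _ = _ ≫ 𝒳.p.map a'.hom ≫ _
    rw [h']
  let G : Stk.sieveCat S ⥤ᵇ sub 𝒳 D.Q :=
    { toFunctor :=
        { obj := q
          map := fun {s t} n => b n
          map_id := fun s => hinj (by rw [hb, D.F.toFunctor.map_id, Category.id_comp]) (by
            rw [hb']
            change _ = 𝒳.p.map (𝟙 (q s).obj)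
            rw [𝒳.p.map_id, show (𝟙 s : s ⟶ s).hom.left = 𝟙 _ from rfl]
            simp)
          map_comp := fun {r s t} n n' => hinj (by rw [hb, D.F.toFunctor.map_comp, Category.assoc, hb, hb]) (by
            change _ = 𝒳.p.map ((b n).hom ≫ (b n').hom)
            rw [hb', 𝒳.p.map_comp, hb', hb', show (n ≫ n').hom.left = n.hom.left ≫ n'.hom.left from rfl]
            simp) }
      w := CategoryTheory.Functor.ext (F := _ ⋙ (sub 𝒳 D.Q).p) (G := (Stk.sieveCat S).p) hq
        fun s t n => hb' n }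
  obtain ⟨c⟩ := (isStack_iff.1 hX S hS).2 (BasedFunctor.comp G ⟨ObjectProperty.ι D.Q, rfl⟩)
  have hιmap : ∀ s, 𝒳.p.map (c.ι s) = eqToHom (hq s) ≫ s.obj.hom ≫ eqToHom c.base.symm := fun s => c.map_ι s
  let g : ∀ s : (Stk.sieveCat S).obj, _ ⟶ 𝒳.p.obj c.pt := fun s => s.obj.hom ≫ eqToHom c.base.symm
  let θ : ∀ s, (q s).obj ⟶ pull c.pt rfl (g s) := fun s => facMap (pullHom c.pt rfl (g s)) (c.ι s)
    (eqToHom ((hq s).trans (pull_base c.pt rfl (g s)).symm)) (by
      rw [hιmap, map_pullHom]; simp [g])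
  have hθ : ∀ s, θ s ≫ pullHom c.pt rfl (g s) = c.ι s := fun s => facMap_comp _ _ _ _
  have hmem : ∀ s, D.Q (pull c.pt rfl (g s)) := fun s => by
    haveI := isIso_of_vert (θ s) (map_facMap _ _ _ _)
    exact D.pull_mem (inv (θ s)) (q s).property
  let D' : Stk.sieveCat S ⥤ᵇ 𝒴 := BasedFunctor.comp G D.F
  let c₁ : SCone D' :=
    { pt := obj D c.pt
      base := (obj_base D c.pt).trans c.base
      ι := fun s => D.F.map (ObjectProperty.homMk (θ s) : q s ⟶ qMk D _ (hmem s)) ≫ leg D c.pt _ (hmem s)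
      map_ι := fun s => by
        rw [Functor.map_comp, map_leg, map_w]
        change (_ ≫ 𝒳.p.map (θ s) ≫ _) ≫ _ = _
        rw [map_facMap]
        simp [g]
      nat := fun {s t} n => by
        let n' : pull c.pt rfl (g s) ⟶ pull c.pt rfl (g t) := facMap (pullHom c.pt rfl _) (pullHom c.pt rfl _)
          (eqToHom (pull_base c.pt rfl _) ≫ n.hom.left ≫ eqToHom (pull_base c.pt rfl _).symm) (by
            rw [map_pullHom, map_pullHom]
            have := Over.w n.hom
            simp [g])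
        have hn : (b n).hom ≫ θ t = θ s ≫ n' := by
          refine hom_ext (pullHom c.pt rfl (g t)) ?_ ?_
          · rw [Functor.map_comp, Functor.map_comp, map_facMap, map_facMap, map_facMap, hb']
            simp
          · rw [Category.assoc, Category.assoc, hθ, facMap_comp, hθ]
            exact c.nat n
        change D.F.map (b n) ≫ D.F.map _ ≫ leg D c.pt _ _ = D.F.map _ ≫ leg D c.pt _ _
        rw [← leg_nat D c.pt _ (hmem t) _ (hmem s) n' (facMap_comp _ _ _ _), ← Category.assoc, ← Category.assoc,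
          ← D.F.toFunctor.map_comp, ← D.F.toFunctor.map_comp]
        exact congrArg (fun k => D.F.map k ≫ leg D c.pt _ (hmem t)) (ObjectProperty.hom_ext _ hn) }
  let c₂ : SCone D' :=
    { pt := y
      base := rfl
      ι := m
      map_ι := fun s => by
        rw [hm, eqToHom_refl, Category.comp_id]
      nat := fun {s t} n => hb n }
  obtain ⟨h, ⟨hh, -⟩, -⟩ := (isStack_iff.1 D.stack S hS).1 D' c₁ c₂
  have hh' : 𝒴.p.map h = eqToHom ((obj_base D c.pt).trans c.base) := hh
  haveI := isIso_of_vert h hh'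
  exact ⟨c.pt, c.base, asIso h, hh'⟩

end Groth.Agent.StackExtLib
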